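import Groth.Agent.H7Flat.GenericFreeness
import Mathlib.RingTheory.Flat.Equalizer
import Mathlib.RingTheory.Flat.Stability
import Mathlib.RingTheory.Localization.BaseChange
import Mathlib.RingTheory.LocalRing.ResidueField.Ideal

/-!
# Exactness on the generic fibre spreads to fibres over a nonempty open
-/

set_option autoImplicit false
set_option linter.style.haveILetI false

universe u

open scoped TensorProduct nonZeroDivisors

namespace Groth.Agent.H8Props.GenericExact

variable {R : Type u} [CommRing R]

/-- A localisation sends an element back to the fibre, so base change along it is split injective on fibres. -/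
theorem injective_lTensor_mk {f : R} {A : Type u} [CommRing A] [Algebra R A] (hf : IsUnit (algebraMap R A f))
    (M : Type u) [AddCommGroup M] [Module R M] :
    Function.Injective ((TensorProduct.mk R (Localization.Away f) M 1).lTensor A) := by
  let φ : Localization.Away f →ₐ[R] A :=
    IsLocalization.liftAlgHom (M := Submonoid.powers f) (f := Algebra.ofId R A)
      (by rintro ⟨_, n, rfl⟩; rw [show (Algebra.ofId R A) (f ^ n) = algebraMap R A f ^ n from map_pow _ _ _]
          exact hf.pow n)
  let back : A ⊗[R] (Localization.Away f ⊗[R] M) →ₗ[R] A ⊗[R] M :=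
    ((LinearMap.mul' R A).rTensor M) ∘ₗ (TensorProduct.assoc R A A M).symm.toLinearMap ∘ₗ
      ((φ.toLinearMap.rTensor M).lTensor A)
  refine Function.LeftInverse.injective (g := back) fun x => ?_
  induction x using TensorProduct.induction_on with
  | zero => simp
  | add a b ha hb => rw [map_add, map_add, ha, hb]
  | tmul a m => simp [back]

variable [IsDomain R] {B : Type u} [CommRing B] [Algebra R B] [Algebra.FiniteType R B]

/-- A map injective on the generic fibre is injective on the fibres over a nonempty open. -/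
theorem exists_injective {C H : Type u}
    [AddCommGroup C] [Module B C] [Module R C] [IsScalarTower R B C] [Module.Finite B C]
    [AddCommGroup H] [Module B H] [Module R H] [IsScalarTower R B H] [Module.Finite B H]
    (w : C →ₗ[B] H) (hw : ∀ x, w x = 0 → ∃ r : R, r ≠ 0 ∧ r • x = 0) :
    ∃ f : R, f ≠ 0 ∧ ∀ (A : Type u) [CommRing A] [Algebra R A], IsUnit (algebraMap R A f) →
      Function.Injective ((w.restrictScalars R).lTensor A) := by
  obtain ⟨f₁, hf₁, hC⟩ := H7Flat.exists_isAwayFree_of_finiteType B C (R := R)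
  obtain ⟨f₂, hf₂, hQ⟩ := H7Flat.exists_isAwayFree_of_finiteType B (H ⧸ LinearMap.range w) (R := R)
  refine ⟨f₁ * f₂, mul_ne_zero hf₁ hf₂, fun A _ _ hA => ?_⟩
  let f := f₁ * f₂
  let Rf := Localization.Away f
  let v : C →ₗ[R] H := w.restrictScalars R
  let π : H →ₗ[R] H ⧸ LinearMap.range w := (LinearMap.range w).mkQ.restrictScalars R
  haveI := (hQ.of_dvd (dvd_mul_left f₂ f₁)).free_baseChange
  haveI : Module.Flat R (Rf ⊗[R] (H ⧸ LinearMap.range w)) := Module.Flat.trans R Rf _
  have hinj : Function.Injective (v.lTensor Rf) := by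
    have h1 : Function.Bijective (v.rangeRestrict.baseChange Rf) :=
      H7Flat.baseChange_bijective_of_torsion v.rangeRestrict
        (fun x hx => (hC.of_dvd (dvd_mul_right f₁ f₂)).exists_pow_smul_eq_zero (hw x (congrArg Subtype.val hx)))
        fun c => ⟨0, by
          rw [LinearMap.range_eq_top.2 v.surjective_rangeRestrict]
          trivial⟩
    have h2 := Module.Flat.lTensor_preserves_injective_linearMap (M := Rf)
      (LinearMap.range v).subtype Subtype.val_injective
    intro x y hxy
    refine h1.1 (h2 ?_)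
    show (LinearMap.range v).subtype.lTensor Rf (v.rangeRestrict.lTensor Rf x) =
      (LinearMap.range v).subtype.lTensor Rf (v.rangeRestrict.lTensor Rf y)
    rw [← LinearMap.lTensor_comp_apply, ← LinearMap.lTensor_comp_apply]
    exact hxy
  have hex : Function.Exact (v.lTensor Rf) (π.lTensor Rf) :=
    lTensor_exact Rf (fun x => (Submodule.Quotient.mk_eq_zero _).trans
      ⟨fun ⟨y, hy⟩ => ⟨y, hy⟩, fun ⟨y, hy⟩ => ⟨y, hy⟩⟩) (Submodule.mkQ_surjective _)
  have h3 := LinearMap.lTensor_injective_of_exact_of_flat (π.lTensor Rf)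
    (LinearMap.lTensor_surjective Rf (Submodule.mkQ_surjective _)) (v.lTensor Rf) hinj hex A
  have sq : (v.lTensor Rf).lTensor A ∘ₗ (TensorProduct.mk R Rf C 1).lTensor A =
      (TensorProduct.mk R Rf H 1).lTensor A ∘ₗ v.lTensor A := by
    ext a c
    rfl
  intro x y hxy
  refine injective_lTensor_mk hA C (h3 ?_)
  exact (LinearMap.congr_fun sq x).trans
    ((congrArg _ hxy).trans (LinearMap.congr_fun sq y).symm)

/-- Exactness of the generic fibre gives exactness of the fibres over a nonempty open. -/
theorem exists_exact {F G H : Type u}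
    [AddCommGroup F] [Module B F] [Module R F] [IsScalarTower R B F] [Module.Finite B F]
    [AddCommGroup G] [Module B G] [Module R G] [IsScalarTower R B G] [Module.Finite B G]
    [AddCommGroup H] [Module B H] [Module R H] [IsScalarTower R B H] [Module.Finite B H]
    (u : F →ₗ[B] G) (v : G →ₗ[B] H)
    (hgen : Function.Exact ((u.restrictScalars R).baseChange (FractionRing R))
      ((v.restrictScalars R).baseChange (FractionRing R))) :
    ∃ f : R, f ≠ 0 ∧ ∀ (A : Type u) [CommRing A] [Algebra R A], IsUnit (algebraMap R A f) →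
      Function.Exact ((u.restrictScalars R).baseChange A) ((v.restrictScalars R).baseChange A) := by
  let K := FractionRing R
  -- clearing denominators on the generic fibre
  have htor : ∀ (M : Type u) [AddCommGroup M] [Module R M] (m : M), (1 : K) ⊗ₜ[R] m = 0 → ∃ r : R, r ≠ 0 ∧ r • m = 0 := by
    intro M _ _ m hm
    haveI : IsLocalizedModule R⁰ (TensorProduct.mk R K M 1) :=
      (isLocalizedModule_iff_isBaseChange R⁰ K _).2 (TensorProduct.isBaseChange R M K)
    obtain ⟨⟨c, hc⟩, h⟩ := (IsLocalizedModule.eq_zero_iff R⁰ (TensorProduct.mk R K M 1)).1 hm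
    exact ⟨c, nonZeroDivisors.ne_zero hc, h⟩
  have hsurj : ∀ (M : Type u) [AddCommGroup M] [Module R M] (y : K ⊗[R] M),
      ∃ (r : R) (m : M), r ≠ 0 ∧ r • y = (1 : K) ⊗ₜ[R] m := by
    intro M _ _ y
    haveI : IsLocalizedModule R⁰ (TensorProduct.mk R K M 1) :=
      (isLocalizedModule_iff_isBaseChange R⁰ K _).2 (TensorProduct.isBaseChange R M K)
    obtain ⟨⟨m, ⟨c, hc⟩⟩, h⟩ := IsLocalizedModule.surj R⁰ (TensorProduct.mk R K M 1) y
    exact ⟨c, m, nonZeroDivisors.ne_zero hc, h⟩
  -- the composite dies after inverting one element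
  let vu := v ∘ₗ u
  have hvu : ∀ x, ∃ r : R, r ≠ 0 ∧ r • vu x = 0 := fun x => htor H _ (by
    exact hgen.apply_apply_eq_zero ((1 : K) ⊗ₜ[R] x))
  obtain ⟨t, gens, hgens⟩ := Module.Finite.exists_fin (R := B) (M := F)
  choose r hr hr' using fun i => hvu (gens i)
  let f₀ := ∏ i, r i
  have hf₀ : ∀ x, f₀ • vu x = 0 := fun x => by
    have hx : x ∈ Submodule.span B (Set.range gens) := hgens ▸ trivial
    induction hx using Submodule.span_induction with
    | mem y hy =>
      obtain ⟨i, rfl⟩ := hy
      rw [show f₀ = (∏ j ∈ Finset.univ.erase i, r j) * r i from (Finset.prod_erase_mul _ _ (Finset.mem_univ i)).symm,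
        mul_smul, hr', smul_zero]
    | zero => simp
    | add a b _ _ ha hb => rw [map_add, smul_add, ha, hb, add_zero]
    | smul c a _ ha => rw [map_smul, smul_comm, ha, smul_zero]
  -- the induced map
  let w : G ⧸ LinearMap.range u →ₗ[B] H ⧸ LinearMap.range vu :=
    Submodule.mapQ _ _ v fun x ⟨y, hy⟩ => ⟨y, congrArg v hy⟩
  obtain ⟨f, hf, hinj⟩ := exists_injective (R := R) w fun x hx => by
    obtain ⟨g, rfl⟩ := Submodule.Quotient.mk_surjective _ x
    obtain ⟨z, hz⟩ := (Submodule.Quotient.mk_eq_zero _).1 hx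
    have h0 : (v.restrictScalars R).baseChange K ((1 : K) ⊗ₜ[R] (g - u z)) = 0 := by
      rw [LinearMap.baseChange_tmul, LinearMap.restrictScalars_apply, map_sub, ← hz]
      simp [vu]
    obtain ⟨y, hy⟩ := (hgen _).1 h0
    obtain ⟨c, m, hc, hm⟩ := hsurj F y
    obtain ⟨d, hd, hd'⟩ := htor G (u m - c • (g - u z)) (by
      rw [TensorProduct.tmul_sub, TensorProduct.tmul_smul, ← hy, ← LinearMap.map_smul_of_tower, hm,
        LinearMap.baseChange_tmul, LinearMap.restrictScalars_apply, sub_self])
    refine ⟨d * c, mul_ne_zero hd hc, ?_⟩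
    rw [← Submodule.Quotient.mk_smul, Submodule.Quotient.mk_eq_zero]
    refine ⟨d • m + (d * c) • z, ?_⟩
    rw [smul_sub, sub_eq_zero, smul_smul, smul_sub] at hd'
    rw [map_add, LinearMap.map_smul_of_tower, LinearMap.map_smul_of_tower, hd', sub_add_cancel]
  refine ⟨f₀ * f, mul_ne_zero (Finset.prod_ne_zero_iff.2 fun i _ => hr i) hf, fun A _ _ hA => ?_⟩
  rw [map_mul, IsUnit.mul_iff] at hA
  let uR := u.restrictScalars R
  let vR := v.restrictScalars R
  have hzero : (vu.restrictScalars R).lTensor A = 0 := by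
    ext a x
    refine hA.1.smul_eq_zero.1 ?_
    show algebraMap R A f₀ • (a ⊗ₜ[R] vu x) = 0
    rw [algebraMap_smul, ← TensorProduct.tmul_smul, hf₀, TensorProduct.tmul_zero]
  intro y
  constructor
  · intro hy
    let πG : G →ₗ[R] G ⧸ LinearMap.range u := (LinearMap.range u).mkQ.restrictScalars R
    let πH : H →ₗ[R] H ⧸ LinearMap.range vu := (LinearMap.range vu).mkQ.restrictScalars R
    have hex : Function.Exact (uR.lTensor A) (πG.lTensor A) :=
      lTensor_exact A (fun x => (Submodule.Quotient.mk_eq_zero _).trans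
        ⟨fun ⟨y, hy⟩ => ⟨y, hy⟩, fun ⟨y, hy⟩ => ⟨y, hy⟩⟩) (Submodule.mkQ_surjective _)
    have h1 : (w.restrictScalars R).lTensor A (πG.lTensor A y) = πH.lTensor A (vR.lTensor A y) := by
      rw [← LinearMap.lTensor_comp_apply, ← LinearMap.lTensor_comp_apply]
      rfl
    rw [show vR.lTensor A y = 0 from hy, map_zero] at h1
    exact (hex y).1 (hinj A hA.2 (h1.trans (map_zero _).symm))
  · rintro ⟨x, rfl⟩
    show vR.lTensor A (uR.lTensor A x) = 0
    rw [← LinearMap.lTensor_comp_apply]
    exact LinearMap.congr_fun hzero x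

end Groth.Agent.H8Props.GenericExact
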