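import Mathlib.LinearAlgebra.TensorProduct.Pi
import Mathlib.LinearAlgebra.TensorProduct.RightExactness
import Mathlib.LinearAlgebra.Matrix.ToLin
import Mathlib.RingTheory.TensorProduct.Maps
import Mathlib.RingTheory.Flat.FaithfullyFlat.Basic

/-!
# Exactness of a sequence given by matrices
-/

set_option autoImplicit false
set_option linter.style.haveILetI false
set_option linter.unusedSectionVars false

universe u

open scoped TensorProduct Matrix

namespace Groth.Agent.H8Props.GenericExact

variable {R : Type u} [CommRing R] {m r s a : ℕ}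

/-- The sequence `C^m → C^r → coker (C^a → C^s)` given by three matrices is exact. -/
def ExactData {C : Type u} [CommRing C] (U : Matrix (Fin m) (Fin r) C) (V : Matrix (Fin r) (Fin s) C)
    (W : Matrix (Fin a) (Fin s) C) : Prop :=
  ∀ y : Fin r → C, (∃ w, w ᵥ* W = y ᵥ* V) ↔ ∃ x, x ᵥ* U = y

theorem vecMul_map {C C' : Type u} [CommRing C] [CommRing C'] (f : C →+* C') {p q : ℕ}
    (M : Matrix (Fin p) (Fin q) C) (x : Fin p → C) :
    (fun j => f ((x ᵥ* M) j)) = (fun i => f (x i)) ᵥ* M.map f :=
  funext fun j => RingHom.map_vecMul f M x j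

theorem exactData_map_equiv {C C' : Type u} [CommRing C] [CommRing C'] (e : C ≃+* C')
    (U : Matrix (Fin m) (Fin r) C) (V : Matrix (Fin r) (Fin s) C) (W : Matrix (Fin a) (Fin s) C) :
    ExactData (U.map e) (V.map e) (W.map e) ↔ ExactData U V W := by
  have main : ∀ {C C' : Type u} [CommRing C] [CommRing C'] (e : C ≃+* C')
      (U : Matrix (Fin m) (Fin r) C) (V : Matrix (Fin r) (Fin s) C) (W : Matrix (Fin a) (Fin s) C),
      ExactData U V W → ExactData (U.map e) (V.map e) (W.map e) := by
    intro C C' _ _ e U V W h y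
    have key : ∀ {p q : ℕ} (M : Matrix (Fin p) (Fin q) C) (x : Fin p → C') (y : Fin q → C'),
        x ᵥ* M.map e = y ↔ (fun i => e.symm (x i)) ᵥ* M = fun j => e.symm (y j) := by
      intro p q M x y
      have h1 := vecMul_map e.toRingHom M (fun i => e.symm (x i))
      rw [show (fun i => e.toRingHom (e.symm (x i))) = x from funext fun i => e.apply_symm_apply _] at h1
      constructor
      · intro hxy
        funext j
        refine e.injective ?_
        rw [e.apply_symm_apply]
        exact (congrFun h1 j).trans (congrFun hxy j)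
      · intro hxy
        refine h1.symm.trans (funext fun j => ?_)
        rw [hxy]
        exact e.apply_symm_apply _
    have hV : (fun j => e.symm ((y ᵥ* V.map e) j)) = (fun i => e.symm (y i)) ᵥ* V :=
      ((key V y _).1 rfl).symm
    constructor
    · rintro ⟨w, hw⟩
      obtain ⟨x, hx⟩ := (h _).1 ⟨_, ((key W w _).1 hw).trans hV⟩
      exact ⟨fun i => e (x i), (key U _ y).2 (by simpa using hx)⟩
    · rintro ⟨x, hx⟩
      obtain ⟨w, hw⟩ := (h _).2 ⟨_, (key U x y).1 hx⟩
      refine ⟨fun i => e (w i), (key W _ _).2 ?_⟩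
      rw [hV]
      simpa using hw
  refine ⟨fun h => ?_, main e U V W⟩
  have := main e.symm _ _ _ h
  simpa [Matrix.map_map, Function.comp_def] using this

variable {B : Type u} [CommRing B] [Algebra R B] (A : Type u) [CommRing A] [Algebra R A]

/-- Vectors with entries in `A ⊗ B`. -/
noncomputable def tensorVec (n : ℕ) : A ⊗[R] (Fin n → B) ≃ₗ[R] (Fin n → A ⊗[R] B) :=
  (TensorProduct.piRight R A A fun _ : Fin n => B).restrictScalars R

theorem tensorVec_tmul {n : ℕ} (x : A) (y : Fin n → B) (j : Fin n) : tensorVec A n (x ⊗ₜ[R] y) j = x ⊗ₜ y j := by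
  simp [tensorVec]

theorem tensorVec_lTensor {p q : ℕ} (M : Matrix (Fin p) (Fin q) B) (z : A ⊗[R] (Fin p → B)) :
    tensorVec A q ((M.vecMulLinear.restrictScalars R).lTensor A z) =
      tensorVec A p z ᵥ* M.map (Algebra.TensorProduct.includeRight (R := R) (A := A) (B := B)) := by
  induction z using TensorProduct.induction_on with
  | zero => simp
  | add x y hx hy => rw [map_add, map_add, hx, hy, map_add, Matrix.add_vecMul]
  | tmul x y =>
    funext j
    rw [LinearMap.lTensor_tmul, tensorVec_tmul, LinearMap.restrictScalars_apply, Matrix.vecMulLinear_apply]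
    simp only [Matrix.vecMul, dotProduct, Matrix.map_apply, tensorVec_tmul, TensorProduct.tmul_sum,
      Algebra.TensorProduct.includeRight_apply, Algebra.TensorProduct.tmul_mul_tmul, mul_one]

variable {H : Type u} [AddCommGroup H] [Module B H] [Module R H] [IsScalarTower R B H]

/-- Exactness over `A` of the sequence `B^m → B^r → H` with `H` the cokernel of `W`. -/
theorem exact_iff_exactData (U : Matrix (Fin m) (Fin r) B) (V : Matrix (Fin r) (Fin s) B)
    (W : Matrix (Fin a) (Fin s) B) (q : (Fin s → B) →ₗ[B] H) (hq : Function.Surjective q)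
    (hW : Function.Exact W.vecMulLinear q) :
    Function.Exact ((U.vecMulLinear.restrictScalars R).lTensor A)
        (((q ∘ₗ V.vecMulLinear).restrictScalars R).lTensor A) ↔
      ExactData (U.map (Algebra.TensorProduct.includeRight (R := R) (A := A) (B := B)))
        (V.map (Algebra.TensorProduct.includeRight (R := R) (A := A) (B := B)))
        (W.map (Algebra.TensorProduct.includeRight (R := R) (A := A) (B := B))) := by
  have hexW : Function.Exact ((W.vecMulLinear.restrictScalars R).lTensor A) ((q.restrictScalars R).lTensor A) :=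
    lTensor_exact A (f := W.vecMulLinear.restrictScalars R) (g := q.restrictScalars R) hW hq
  have hker : ∀ z, ((q ∘ₗ V.vecMulLinear).restrictScalars R).lTensor A z = 0 ↔
      ∃ w, w ᵥ* W.map (Algebra.TensorProduct.includeRight (R := R) (A := A) (B := B)) =
        tensorVec A r z ᵥ* V.map (Algebra.TensorProduct.includeRight (R := R) (A := A) (B := B)) := by
    intro z
    rw [show (q ∘ₗ V.vecMulLinear).restrictScalars R = q.restrictScalars R ∘ₗ V.vecMulLinear.restrictScalars R from rfl,
      LinearMap.lTensor_comp_apply, hexW]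
    constructor
    · rintro ⟨w, hw⟩
      exact ⟨tensorVec A a w, by rw [← tensorVec_lTensor, ← tensorVec_lTensor, hw]⟩
    · rintro ⟨w, hw⟩
      obtain ⟨w, rfl⟩ := (tensorVec A a).surjective w
      rw [← tensorVec_lTensor, ← tensorVec_lTensor] at hw
      exact ⟨w, (tensorVec A s).injective hw⟩
  have him : ∀ z, z ∈ Set.range ((U.vecMulLinear.restrictScalars R).lTensor A) ↔
      ∃ x, x ᵥ* U.map (Algebra.TensorProduct.includeRight (R := R) (A := A) (B := B)) = tensorVec A r z := by
    intro z
    constructor
    · rintro ⟨x, rfl⟩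
      exact ⟨tensorVec A m x, (tensorVec_lTensor A U x).symm⟩
    · rintro ⟨x, hx⟩
      obtain ⟨x, rfl⟩ := (tensorVec A m).surjective x
      rw [← tensorVec_lTensor] at hx
      exact ⟨x, (tensorVec A r).injective hx⟩
  constructor
  · intro h y
    obtain ⟨z, rfl⟩ := (tensorVec A r).surjective y
    rw [← hker, ← him]
    exact h z
  · intro h z
    rw [hker, him]
    exact h _

/-- A module map can be replaced by a presentation of its source and target. -/
theorem exact_iff_of_surjective {F G L P : Type u} [AddCommGroup F] [Module R F] [AddCommGroup G] [Module R G]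
    [AddCommGroup L] [Module R L] [AddCommGroup P] [Module R P] {H' : Type u} [AddCommGroup H'] [Module R H']
    (u : F →ₗ[R] G) (v : G →ₗ[R] H') (U : L →ₗ[R] P) (π : P →ₗ[R] G) (hπ : Function.Surjective π)
    (hU : ∀ y, y ∈ LinearMap.range U ↔ π y ∈ LinearMap.range u) :
    Function.Exact (u.lTensor A) (v.lTensor A) ↔ Function.Exact (U.lTensor A) ((v ∘ₗ π).lTensor A) := by
  let q := (LinearMap.range u).mkQ
  have h1 : Function.Exact (u.lTensor A) (q.lTensor A) :=
    lTensor_exact A (LinearMap.exact_map_mkQ_range u) (Submodule.mkQ_surjective _)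
  have h2 : Function.Exact (U.lTensor A) ((q ∘ₗ π).lTensor A) :=
    lTensor_exact A (fun y => ((Submodule.Quotient.mk_eq_zero _).trans (hU y).symm).trans
      ⟨fun ⟨x, hx⟩ => ⟨x, hx⟩, fun ⟨x, hx⟩ => ⟨x, hx⟩⟩) ((Submodule.mkQ_surjective _).comp hπ)
  constructor
  · intro h z
    rw [LinearMap.lTensor_comp_apply, ← h2, LinearMap.lTensor_comp_apply, h, h1]
  · intro h z
    obtain ⟨z, rfl⟩ := LinearMap.lTensor_surjective A hπ z
    rw [← h1, ← LinearMap.lTensor_comp_apply, h, ← LinearMap.lTensor_comp_apply, h2]

end Groth.Agent.H8Props.GenericExact
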