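import Groth.Agent.H8Props.GenericExact.NotExact
import Groth.Agent.H8Props.GenericExact.Matrix
import Groth.Agent.H28Top.Noeth
import Mathlib.RingTheory.Spectrum.Prime.Noetherian
import Mathlib.RingTheory.Flat.FaithfullyFlat.Basic

/-!
# The locus of exact fibres over a Noetherian base is constructible
-/

set_option autoImplicit false
set_option linter.style.haveILetI false
set_option linter.unusedSectionVars false

universe u

open scoped TensorProduct Matrix

namespace Groth.Agent.H8Props.GenericExact

variable {R : Type u} [CommRing R] {B : Type u} [CommRing B] [Algebra R B] {m r s a : ℕ}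
  (U : Matrix (Fin m) (Fin r) B) (V : Matrix (Fin r) (Fin s) B) (W : Matrix (Fin a) (Fin s) B)

/-- The data over `A ⊗ B`. -/
def FibData (A : Type u) [CommRing A] [Algebra R A] : Prop :=
  ExactData (U.map (Algebra.TensorProduct.includeRight (R := R) (A := A) (B := B)))
    (V.map (Algebra.TensorProduct.includeRight (R := R) (A := A) (B := B)))
    (W.map (Algebra.TensorProduct.includeRight (R := R) (A := A) (B := B)))

theorem fibData_iff (A : Type u) [CommRing A] [Algebra R A] :
    FibData (R := R) U V W A ↔ Function.Exact ((U.vecMulLinear.restrictScalars R).lTensor A)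
      ((((LinearMap.range W.vecMulLinear).mkQ ∘ₗ V.vecMulLinear).restrictScalars R).lTensor A) :=
  (exact_iff_exactData A U V W _ (Submodule.mkQ_surjective _) (LinearMap.exact_map_mkQ_range _)).symm

theorem fibData_field_ext (k K : Type u) [Field k] [Field K] [Algebra R k] [Algebra R K] [Algebra k K]
    [IsScalarTower R k K] : FibData (R := R) U V W K ↔ FibData (R := R) U V W k := by
  rw [fibData_iff, fibData_iff]
  refine Iff.trans ?_ (Module.FaithfullyFlat.lTensor_exact_iff_exact k K
    (l12 := (U.vecMulLinear.restrictScalars R).baseChange k)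
    (l23 := (((LinearMap.range W.vecMulLinear).mkQ ∘ₗ V.vecMulLinear).restrictScalars R).baseChange k))
  refine (Function.Exact.iff_of_ladder_linearEquiv
    (e₁ := ((TensorProduct.AlgebraTensorModule.cancelBaseChange R k k K (Fin m → B)).restrictScalars R))
    (e₂ := ((TensorProduct.AlgebraTensorModule.cancelBaseChange R k k K (Fin r → B)).restrictScalars R))
    (e₃ := ((TensorProduct.AlgebraTensorModule.cancelBaseChange R k k K _).restrictScalars R))
    (f₁₂ := (((U.vecMulLinear.restrictScalars R).baseChange k).lTensor K).restrictScalars R)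
    (f₂₃ := (((((LinearMap.range W.vecMulLinear).mkQ ∘ₗ V.vecMulLinear).restrictScalars R).baseChange k).lTensor
      K).restrictScalars R) ?_ ?_).trans Iff.rfl
  · refine LinearMap.ext fun x => ?_
    induction x using TensorProduct.induction_on with
    | zero => simp
    | add x y hx hy => simp only [map_add, hx, hy]
    | tmul c x =>
      induction x using TensorProduct.induction_on with
      | zero => simp
      | add x y hx hy => simp only [TensorProduct.tmul_add, map_add, hx, hy]
      | tmul d y => simp
  · refine LinearMap.ext fun x => ?_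
    induction x using TensorProduct.induction_on with
    | zero => simp
    | add x y hx hy => simp only [map_add, hx, hy]
    | tmul c x =>
      induction x using TensorProduct.induction_on with
      | zero => simp
      | add x y hx hy => simp only [TensorProduct.tmul_add, map_add, hx, hy]
      | tmul d y => simp

/-- Base change of the data along `R → R'`. -/
theorem fibData_baseChange (R' : Type u) [CommRing R'] [Algebra R R'] (A : Type u) [CommRing A] [Algebra R A]
    [Algebra R' A] [IsScalarTower R R' A] :
    FibData (R := R') (U.map (Algebra.TensorProduct.includeRight (R := R) (A := R') (B := B)))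
        (V.map (Algebra.TensorProduct.includeRight (R := R) (A := R') (B := B)))
        (W.map (Algebra.TensorProduct.includeRight (R := R) (A := R') (B := B))) A ↔
      FibData (R := R) U V W A := by
  let e := Algebra.TensorProduct.cancelBaseChange R R' A A B
  unfold FibData
  refine (exactData_map_equiv e.toRingEquiv _ _ _).symm.trans (Iff.of_eq ?_)
  have h : ∀ {p q : ℕ} (M : Matrix (Fin p) (Fin q) B),
      ((M.map (Algebra.TensorProduct.includeRight (R := R) (A := R') (B := B))).map
        (Algebra.TensorProduct.includeRight (R := R') (A := A) (B := R' ⊗[R] B))).map e.toRingEquiv =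
        M.map (Algebra.TensorProduct.includeRight (R := R) (A := A) (B := B)) := fun M => by
    ext i j
    simp [e]
  rw [h U, h V, h W]

variable [Algebra.FiniteType R B]

/-- Near the generic point of a closed irreducible set the status is constant. -/
theorem exists_eventually_eq [IsNoetherianRing R] (p : PrimeSpectrum R) :
    ∃ f : R, f ∉ p.asIdeal ∧ ∀ q : PrimeSpectrum R, p.asIdeal ≤ q.asIdeal → f ∉ q.asIdeal →
      (FibData (R := R) U V W q.asIdeal.ResidueField ↔ FibData (R := R) U V W p.asIdeal.ResidueField) := by
  let R' := R ⧸ p.asIdeal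
  let B' := R' ⊗[R] B
  haveI : Algebra.FiniteType R' B' := inferInstance
  let U' := U.map (Algebra.TensorProduct.includeRight (R := R) (A := R') (B := B))
  let V' := V.map (Algebra.TensorProduct.includeRight (R := R) (A := R') (B := B))
  let W' := W.map (Algebra.TensorProduct.includeRight (R := R) (A := R') (B := B))
  let v' := (LinearMap.range W'.vecMulLinear).mkQ ∘ₗ V'.vecMulLinear
  obtain ⟨g, hg, hiff⟩ : ∃ g : R', g ≠ 0 ∧ ∀ (A : Type u) [CommRing A] [Nontrivial A] [Algebra R' A],
      IsUnit (algebraMap R' A g) → (FibData (R := R') U' V' W' A ↔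
        Function.Exact ((U'.vecMulLinear.restrictScalars R').baseChange (FractionRing R'))
          ((v'.restrictScalars R').baseChange (FractionRing R'))) := by
    by_cases hgen : Function.Exact ((U'.vecMulLinear.restrictScalars R').baseChange (FractionRing R'))
        ((v'.restrictScalars R').baseChange (FractionRing R'))
    · obtain ⟨g, hg, h⟩ := exists_exact U'.vecMulLinear v' hgen
      exact ⟨g, hg, fun A _ _ _ hA => iff_of_true ((fibData_iff U' V' W' A).2 (h A hA)) hgen⟩
    · obtain ⟨g, hg, h⟩ := exists_not_exact U'.vecMulLinear v' hgen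
      exact ⟨g, hg, fun A _ _ _ hA => iff_of_false (fun h' => h A hA ((fibData_iff U' V' W' A).1 h')) hgen⟩
  obtain ⟨f, rfl⟩ := Ideal.Quotient.mk_surjective g
  have hfp : f ∉ p.asIdeal := fun h => hg (Ideal.Quotient.eq_zero_iff_mem.2 h)
  refine ⟨f, hfp, fun q hq hfq => ?_⟩
  have key : ∀ q : PrimeSpectrum R, p.asIdeal ≤ q.asIdeal → f ∉ q.asIdeal →
      (FibData (R := R) U V W q.asIdeal.ResidueField ↔
        Function.Exact ((U'.vecMulLinear.restrictScalars R').baseChange (FractionRing R'))
          ((v'.restrictScalars R').baseChange (FractionRing R'))) := by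
    intro q hq hfq
    letI : Algebra R' q.asIdeal.ResidueField := (Ideal.Quotient.lift p.asIdeal (algebraMap R _)
      fun x hx => Ideal.algebraMap_residueField_eq_zero.2 (hq hx)).toAlgebra
    haveI : IsScalarTower R R' q.asIdeal.ResidueField := .of_algebraMap_eq fun x => rfl
    refine (fibData_baseChange U V W R' q.asIdeal.ResidueField).symm.trans (hiff _ ?_)
    exact isUnit_iff_ne_zero.2 fun h => hfq (Ideal.algebraMap_residueField_eq_zero.1 h)
  exact (key q hq hfq).trans (key p le_rfl hfp).symm

/-- Over a Noetherian ring the locus of exact fibres is constructible. -/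
theorem isConstructible_fibData [IsNoetherianRing R] :
    Topology.IsConstructible {q : PrimeSpectrum R | FibData (R := R) U V W q.asIdeal.ResidueField} := by
  refine H28Top.isConstructible_of_forall_irreducible fun Y hY hirr hdense => ?_
  have hη := hirr.isGenericPoint_genericPoint hY
  obtain ⟨f, hf, hiff⟩ := exists_eventually_eq U V W hirr.genericPoint
  refine ⟨PrimeSpectrum.basicOpen f, PrimeSpectrum.isOpen_basicOpen, ⟨_, hf, hη.mem⟩, ?_⟩
  have hle : ∀ q ∈ Y, hirr.genericPoint.asIdeal ≤ q.asIdeal := fun q hq =>
    (PrimeSpectrum.le_iff_specializes _ _).2 (hη.specializes hq)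
  obtain ⟨z, hzf, hz, hzY⟩ := mem_closure_iff.1 (hdense hη.mem) _ PrimeSpectrum.isOpen_basicOpen
    (show hirr.genericPoint ∈ PrimeSpectrum.basicOpen f from hf)
  rintro q ⟨hqf, hqY⟩
  exact (hiff q (hle q hqY) hqf).2 ((hiff z (hle z hzY) hzf).1 hz)

end Groth.Agent.H8Props.GenericExact
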