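import Groth.Agent.H8Props.GenericExact.Constructible
import Groth.Agent.H8Props.FibreCriterion
import Mathlib.RingTheory.FiniteType
import Mathlib.RingTheory.FinitePresentation
import Mathlib.LinearAlgebra.Matrix.ToLin

/-!
# The locus of exact fibres is constructible over any base
-/

set_option autoImplicit false
set_option linter.style.haveILetI false
set_option linter.unusedSectionVars false

universe u

open scoped TensorProduct Matrix
open Groth.Agent.H13Flat

namespace Groth.Agent.H8Props.GenericExact

theorem fibData_algEquiv {R : Type u} [CommRing R] {B B' : Type u} [CommRing B] [Algebra R B] [CommRing B']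
    [Algebra R B'] (e : B ≃ₐ[R] B') {m r s a : ℕ} (U : Matrix (Fin m) (Fin r) B) (V : Matrix (Fin r) (Fin s) B)
    (W : Matrix (Fin a) (Fin s) B) (A : Type u) [CommRing A] [Algebra R A] :
    FibData (R := R) (U.map e) (V.map e) (W.map e) A ↔ FibData (R := R) U V W A := by
  let E := Algebra.TensorProduct.congr (AlgEquiv.refl : A ≃ₐ[R] A) e
  unfold FibData
  refine Iff.trans (Iff.of_eq ?_) (exactData_map_equiv E.toRingEquiv _ _ _)
  have h : ∀ {p q : ℕ} (M : Matrix (Fin p) (Fin q) B),
      (M.map e).map (Algebra.TensorProduct.includeRight (R := R) (A := A) (B := B')) =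
        (M.map (Algebra.TensorProduct.includeRight (R := R) (A := A) (B := B))).map E.toRingEquiv := fun M => by
    ext i j
    simp [E]
  rw [h U, h V, h W]

variable {R B : Type u} [CommRing R] [CommRing B] [Algebra R B] [Algebra.FinitePresentation R B]

/-- The locus of primes where the fibres of matrix data are exact is constructible. -/
theorem isConstructible_fibData_of_finitePresentation {m r s a : ℕ} (U : Matrix (Fin m) (Fin r) B)
    (V : Matrix (Fin r) (Fin s) B) (W : Matrix (Fin a) (Fin s) B) :
    Topology.IsConstructible {q : PrimeSpectrum R | FibData (R := R) U V W q.asIdeal.ResidueField} := by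
  classical
  obtain ⟨n, φ, hφ, ⟨G, hG⟩⟩ := Algebra.FinitePresentation.out (R := R) (A := B)
  choose PU hPU using fun i j => hφ (U i j)
  choose PV hPV using fun i j => hφ (V i j)
  choose PW hPW using fun i j => hφ (W i j)
  let S : Finset (MvPolynomial (Fin n) R) := G ∪ (Finset.univ.image fun ij : Fin m × Fin r => PU ij.1 ij.2) ∪
    (Finset.univ.image fun ij : Fin r × Fin s => PV ij.1 ij.2) ∪
    (Finset.univ.image fun ij : Fin a × Fin s => PW ij.1 ij.2)
  let T : Finset R := S.biUnion MvPolynomial.coeffs
  let R₀ := Algebra.adjoin ℤ (T : Set R)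
  haveI : Algebra.FiniteType ℤ R₀ := R₀.fg_iff_finiteType.mp ⟨T, rfl⟩
  haveI : IsNoetherianRing R₀ := Algebra.FiniteType.isNoetherianRing ℤ R₀
  have hin : ∀ p ∈ S, p ∈ Set.range (incl R₀) := fun p hp =>
    MvPolynomial.mem_range_map_iff_coeffs_subset.2 fun x hx =>
      ⟨⟨x, Algebra.subset_adjoin (Finset.mem_coe.2 (Finset.mem_biUnion.2 ⟨p, hp, hx⟩))⟩, rfl⟩
  let N := stageIdeal (G : Set (MvPolynomial (Fin n) R)) R₀
  let B₀ := MvPolynomial (Fin n) R₀ ⧸ N
  let u₀ : B₀ →+* B := Ideal.Quotient.lift N (φ.toRingHom.comp (incl R₀)) fun p hp => by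
    refine (Ideal.span_le (I := RingHom.ker (φ.toRingHom.comp (incl R₀)))).mpr ?_ hp
    intro q hq
    exact hG.le (Ideal.subset_span hq)
  letI : Algebra B₀ B := u₀.toAlgebra
  haveI : IsScalarTower R₀ B₀ B := IsScalarTower.of_algebraMap_eq (R := R₀) (S := B₀) (A := B) fun x => by
    show algebraMap R B (x : R) = φ (incl R₀ (MvPolynomial.C x))
    rw [show incl R₀ (MvPolynomial.C x) = MvPolynomial.C (x : R) from MvPolynomial.map_C _ x]
    exact (φ.commutes _).symm
  have hN : Ideal.span (G : Set (MvPolynomial (Fin n) R)) ≤ N.map (incl R₀) := by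
    rw [Ideal.span_le]
    intro p hp
    obtain ⟨q, rfl⟩ := hin p (by simp only [S, Finset.mem_union]; exact Or.inl (Or.inl (Or.inl hp)))
    exact Ideal.mem_map_of_mem _ (Ideal.subset_span hp)
  haveI : Algebra.IsPushout R₀ R B₀ B :=
    FibreCriterion.isPushout_model φ hφ N (hG.ge.trans hN) fun _ => rfl
  choose U₀ hU₀ using fun i j => hin (PU i j) (by
    simp only [S, Finset.mem_union]
    exact Or.inl (Or.inl (Or.inr (Finset.mem_image.2 ⟨(i, j), Finset.mem_univ _, rfl⟩))))
  choose V₀ hV₀ using fun i j => hin (PV i j) (by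
    simp only [S, Finset.mem_union]
    exact Or.inl (Or.inr (Finset.mem_image.2 ⟨(i, j), Finset.mem_univ _, rfl⟩)))
  choose W₀ hW₀ using fun i j => hin (PW i j) (by
    simp only [S, Finset.mem_union]
    exact Or.inr (Finset.mem_image.2 ⟨(i, j), Finset.mem_univ _, rfl⟩))
  let mk₀ := Ideal.Quotient.mk N
  let e : R ⊗[R₀] B₀ ≃ₐ[R] B := Algebra.IsPushout.equiv R₀ R B₀ B
  have he : ∀ {p q : ℕ} (M : Matrix (Fin p) (Fin q) B) (M₀ : Fin p → Fin q → MvPolynomial (Fin n) R₀)
      (P : Fin p → Fin q → MvPolynomial (Fin n) R) (_ : ∀ i j, φ (P i j) = M i j)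
      (_ : ∀ i j, incl R₀ (M₀ i j) = P i j),
      (((Matrix.of fun i j => mk₀ (M₀ i j)).map
        (Algebra.TensorProduct.includeRight (R := R₀) (A := R) (B := B₀))).map e) = M := fun M M₀ P hP hM => by
    ext i j
    simp only [Matrix.map_apply, Matrix.of_apply, Algebra.TensorProduct.includeRight_apply, e,
      Algebra.IsPushout.equiv_tmul]
    rw [map_one, one_mul]
    show φ (incl R₀ (M₀ i j)) = M i j
    rw [hM, hP]
  let U' := Matrix.of fun i j => mk₀ (U₀ i j)
  let V' := Matrix.of fun i j => mk₀ (V₀ i j)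
  let W' := Matrix.of fun i j => mk₀ (W₀ i j)
  haveI : Algebra.FiniteType R₀ B₀ := inferInstance
  have hcons := isConstructible_fibData (R := R₀) U' V' W'
  have hpre := hcons.preimage (PrimeSpectrum.continuous_comap (algebraMap R₀ R))
    (fun V hV hVc => by
      obtain ⟨s, rfl⟩ := (PrimeSpectrum.isCompact_isOpen_iff (R := R₀)).1 ⟨hVc.isCompact, hV⟩
      have hc : IsCompact (PrimeSpectrum.zeroLocus (algebraMap R₀ R '' (s : Set R₀)))ᶜ :=
        ((PrimeSpectrum.isCompact_isOpen_iff (R := R)).2 ⟨s.image (algebraMap R₀ R), by simp⟩).1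
      rw [Set.preimage_compl, PrimeSpectrum.preimage_comap_zeroLocus]
      exact hc.isRetrocompact (PrimeSpectrum.isClosed_zeroLocus _).isOpen_compl)
  refine (congrArg Topology.IsConstructible (Set.ext fun q => ?_)).mp hpre
  show FibData (R := R₀) U' V' W' (PrimeSpectrum.comap (algebraMap R₀ R) q).asIdeal.ResidueField ↔
    FibData (R := R) U V W q.asIdeal.ResidueField
  let p₀ := PrimeSpectrum.comap (algebraMap R₀ R) q
  letI : Algebra p₀.asIdeal.ResidueField q.asIdeal.ResidueField :=
    (Ideal.ResidueField.map p₀.asIdeal q.asIdeal (algebraMap R₀ R) rfl).toAlgebra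
  haveI : IsScalarTower R₀ p₀.asIdeal.ResidueField q.asIdeal.ResidueField := .of_algebraMap_eq fun x => by
    rw [RingHom.algebraMap_toAlgebra, Ideal.ResidueField.map_algebraMap]
    exact IsScalarTower.algebraMap_apply R₀ R q.asIdeal.ResidueField x
  rw [← fibData_field_ext U' V' W' p₀.asIdeal.ResidueField q.asIdeal.ResidueField,
    ← fibData_baseChange U' V' W' R q.asIdeal.ResidueField, ← fibData_algEquiv e,
    he U U₀ PU hPU hU₀, he V V₀ PV hPV hV₀, he W W₀ PW hPW hW₀]

variable {F G H : Type u} [AddCommGroup F] [Module B F] [Module R F] [IsScalarTower R B F] [Module.Finite B F]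
    [AddCommGroup G] [Module B G] [Module R G] [IsScalarTower R B G] [Module.FinitePresentation B G]
    [AddCommGroup H] [Module B H] [Module R H] [IsScalarTower R B H] [Module.FinitePresentation B H]

/-- The locus of primes with exact fibre sequence is constructible. -/
theorem isConstructible_exact (u : F →ₗ[B] G) (v : G →ₗ[B] H) :
    Topology.IsConstructible {p : PrimeSpectrum R |
      Function.Exact ((u.restrictScalars R).baseChange p.asIdeal.ResidueField)
        ((v.restrictScalars R).baseChange p.asIdeal.ResidueField)} := by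
  classical
  obtain ⟨r, nG, πG, gG, hπG, hGex⟩ := Module.FinitePresentation.exists_fin' B G
  obtain ⟨s, nH, πH, gH, hπH, hHex⟩ := Module.FinitePresentation.exists_fin' B H
  obtain ⟨m₁, gens, hgens⟩ := Module.Finite.exists_fin (R := B) (M := F)
  choose cu hcu using fun i => hπG (u (gens i))
  choose cv hcv using fun i : Fin r => hπH (v (πG (Pi.single i 1)))
  let U : Matrix (Fin (m₁ + nG)) (Fin r) B := Matrix.of (Fin.append cu fun j => gG (Pi.single j 1))
  let V : Matrix (Fin r) (Fin s) B := Matrix.of cv
  let W : Matrix (Fin nH) (Fin s) B := Matrix.of fun j => gH (Pi.single j 1)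
  refine (congrArg Topology.IsConstructible (Set.ext fun p => ?_)).mp
    (isConstructible_fibData_of_finitePresentation U V W)
  show FibData (R := R) U V W p.asIdeal.ResidueField ↔ _
  have hWlin : W.vecMulLinear = gH := LinearMap.pi_ext' fun i => LinearMap.ext_ring (by
    show Pi.single i 1 ᵥ* W = gH (Pi.single i 1)
    rw [Matrix.single_one_vecMul]
    rfl)
  have hVlin : πH ∘ₗ V.vecMulLinear = v ∘ₗ πG := LinearMap.pi_ext' fun i => LinearMap.ext_ring (by
    show πH (Pi.single i 1 ᵥ* V) = v (πG (Pi.single i 1))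
    rw [Matrix.single_one_vecMul]
    exact hcv i)
  have hUrange : ∀ y, y ∈ LinearMap.range (U.vecMulLinear.restrictScalars R) ↔
      πG y ∈ LinearMap.range (u.restrictScalars R) := by
    intro y
    show (∃ x, x ᵥ* U = y) ↔ ∃ x, u x = πG y
    have hmem : ∀ y, (∃ x, x ᵥ* U = y) ↔ y ∈ Submodule.span B (Set.range U.row) := fun y => by
      rw [← range_vecMulLinear]
      exact Iff.rfl
    rw [hmem]
    constructor
    · intro hy
      have hle : Submodule.span B (Set.range U.row) ≤ (LinearMap.range u).comap πG := by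
        rw [Submodule.span_le]
        rintro _ ⟨i, rfl⟩
        refine Fin.addCases (fun i => ?_) (fun i => ?_) i
        · exact ⟨gens i, by
            show u (gens i) = πG (Fin.append cu (fun j => gG (Pi.single j 1)) (Fin.castAdd nG i))
            rw [Fin.append_left, hcu]⟩
        · exact ⟨0, by
            rw [map_zero]
            show 0 = πG (Fin.append cu (fun j => gG (Pi.single j 1)) (Fin.natAdd m₁ i))
            rw [Fin.append_right]
            exact (hGex.apply_apply_eq_zero _).symm⟩
      obtain ⟨x, hx⟩ := hle hy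
      exact ⟨x, hx⟩
    · rintro ⟨x, hx⟩
      have hx' : x ∈ Submodule.span B (Set.range gens) := hgens ▸ trivial
      obtain ⟨c, rfl⟩ := (Submodule.mem_span_range_iff_exists_fun B).1 hx'
      obtain ⟨w, hw⟩ := (hGex (y - ∑ i, c i • cu i)).1 (by
        simp [map_sum, hcu, ← hx])
      rw [← sub_add_cancel y (∑ i, c i • cu i), ← hw]
      refine add_mem ?_ (Submodule.sum_mem _ fun i _ => Submodule.smul_mem _ _
        (Submodule.subset_span ⟨Fin.castAdd nG i, show Fin.append cu (fun j => gG (Pi.single j 1)) (Fin.castAdd nG i) = cu i from Fin.append_left _ _ _⟩))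
      rw [pi_eq_sum_univ' w, map_sum]
      refine Submodule.sum_mem _ fun i _ => ?_
      rw [map_smul]
      exact Submodule.smul_mem _ _ (Submodule.subset_span ⟨Fin.natAdd m₁ i, show Fin.append cu (fun j => gG (Pi.single j 1)) (Fin.natAdd m₁ i) = gG (Pi.single i 1) from Fin.append_right _ _ _⟩)
  show _ ↔ Function.Exact ((u.restrictScalars R).lTensor p.asIdeal.ResidueField)
    ((v.restrictScalars R).lTensor p.asIdeal.ResidueField)
  rw [exact_iff_of_surjective p.asIdeal.ResidueField (u.restrictScalars R) (v.restrictScalars R)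
    (U.vecMulLinear.restrictScalars R) (πG.restrictScalars R) hπG hUrange]
  refine (exact_iff_exactData p.asIdeal.ResidueField U V W πH hπH (hWlin ▸ hHex)).symm.trans ?_
  rw [hVlin]
  rfl

end Groth.Agent.H8Props.GenericExact
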