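import Groth.Agent.H8Props.GenericExact.Basic

/-!
# Failure of exactness on the generic fibre spreads to fibres over a nonempty open
-/

set_option autoImplicit false
set_option linter.style.haveILetI false

universe u

open scoped TensorProduct nonZeroDivisors

namespace Groth.Agent.H8Props.GenericExact

variable {R : Type u} [CommRing R] [IsDomain R] {B : Type u} [CommRing B] [Algebra R B] [Algebra.FiniteType R B]

/-- A non torsion element of a finite module stays nonzero on the fibres over a nonempty open. -/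
theorem exists_ne_zero {M : Type u} [AddCommGroup M] [Module B M] [Module R M] [IsScalarTower R B M]
    [Module.Finite B M] {x : M} (hx : ∀ r : R, r • x = 0 → r = 0) :
    ∃ f : R, f ≠ 0 ∧ ∀ (A : Type u) [CommRing A] [Nontrivial A] [Algebra R A],
      IsUnit (algebraMap R A f) → (1 : A) ⊗ₜ[R] x ≠ 0 := by
  let C := Submodule.span B {x}
  haveI : Module.Finite B C := Module.Finite.iff_fg.2 (Submodule.fg_span_singleton x)
  obtain ⟨f₁, hf₁, hfree⟩ := H7Flat.exists_isAwayFree_of_finiteType B C (R := R)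
  obtain ⟨f₂, hf₂, hinj⟩ := exists_injective (R := R) C.subtype
    fun y hy => ⟨1, one_ne_zero, by rw [one_smul]; exact Subtype.ext hy⟩
  refine ⟨f₁ * f₂, mul_ne_zero hf₁ hf₂, fun A _ _ _ hA hzero => ?_⟩
  rw [map_mul, IsUnit.mul_iff] at hA
  let x' : C := ⟨x, Submodule.subset_span rfl⟩
  let Rf := Localization.Away f₁
  haveI := hfree.free_baseChange
  let b := Module.Free.chooseBasis Rf (Rf ⊗[R] C)
  haveI : Nonempty (Module.Free.ChooseBasisIndex Rf (Rf ⊗[R] C)) := by
    by_contra hne
    haveI := not_nonempty_iff.1 hne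
    haveI : Subsingleton (Rf ⊗[R] C) := b.repr.toEquiv.subsingleton
    haveI : IsLocalizedModule (Submonoid.powers f₁) (TensorProduct.mk R Rf C 1) :=
      (isLocalizedModule_iff_isBaseChange _ Rf _).2 (TensorProduct.isBaseChange R C Rf)
    obtain ⟨⟨_, n, rfl⟩, hn⟩ := (IsLocalizedModule.eq_zero_iff (Submonoid.powers f₁)
      (TensorProduct.mk R Rf C 1) (m := x')).1 (Subsingleton.elim _ _)
    exact pow_ne_zero n hf₁ (hx _ (congrArg Subtype.val hn))
  obtain ⟨i⟩ := ‹Nonempty (Module.Free.ChooseBasisIndex Rf (Rf ⊗[R] C))›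
  let σ : Rf →ₐ[R] A := IsLocalization.liftAlgHom (M := Submonoid.powers f₁) (f := Algebra.ofId R A)
    (by rintro ⟨_, n, rfl⟩; rw [show (Algebra.ofId R A) (f₁ ^ n) = algebraMap R A f₁ ^ n from map_pow _ _ _]
        exact hA.1.pow n)
  -- everything in `A ⊗ C` vanishes
  have hx0 : (1 : A) ⊗ₜ[R] x' = 0 := hinj A hA.2 (by
    rw [map_zero, LinearMap.lTensor_tmul]
    exact hzero)
  have hall : ∀ y : C, (1 : A) ⊗ₜ[R] y = 0 := by
    intro y
    obtain ⟨c, hc⟩ := Submodule.mem_span_singleton.1 y.2
    let mc : C →ₗ[R] C := (LinearMap.lsmul B C c).restrictScalars R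
    have h := congrArg (mc.lTensor A) hx0
    rw [map_zero, LinearMap.lTensor_tmul] at h
    rwa [show mc x' = y from Subtype.ext hc] at h
  let χ : Rf ⊗[R] C →ₗ[Rf] Rf := b.coord i
  let ψ : A ⊗[R] C →ₗ[R] A := TensorProduct.lift
    ((LinearMap.mul R A).compl₂ (σ.toLinearMap ∘ₗ (χ.restrictScalars R) ∘ₗ TensorProduct.mk R Rf C 1))
  have hψ : ∀ y : C, σ (χ (1 ⊗ₜ y)) = 0 := fun y => by
    have h := congrArg ψ (hall y)
    simpa [ψ] using h
  have h1 : ∀ z, σ (χ z) = 0 := fun z => by
    induction z using TensorProduct.induction_on with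
    | zero => simp
    | add a a' ha ha' => rw [map_add, map_add, ha, ha', add_zero]
    | tmul a y =>
      rw [show a ⊗ₜ[R] y = a • ((1 : Rf) ⊗ₜ[R] y) by rw [TensorProduct.smul_tmul', smul_eq_mul, mul_one],
        map_smul, smul_eq_mul, map_mul, hψ, mul_zero]
  exact one_ne_zero (α := A) (by simpa [χ] using h1 (b i))

variable {F G H : Type u}
  [AddCommGroup F] [Module B F] [Module R F] [IsScalarTower R B F] [Module.Finite B F]
  [AddCommGroup G] [Module B G] [Module R G] [IsScalarTower R B G] [Module.Finite B G]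
  [AddCommGroup H] [Module B H] [Module R H] [IsScalarTower R B H] [Module.Finite B H]

/-- Failure of exactness of the generic fibre gives failure on the fibres over a nonempty open. -/
theorem exists_not_exact (u : F →ₗ[B] G) (v : G →ₗ[B] H)
    (hgen : ¬ Function.Exact ((u.restrictScalars R).baseChange (FractionRing R))
      ((v.restrictScalars R).baseChange (FractionRing R))) :
    ∃ f : R, f ≠ 0 ∧ ∀ (A : Type u) [CommRing A] [Nontrivial A] [Algebra R A], IsUnit (algebraMap R A f) →
      ¬ Function.Exact ((u.restrictScalars R).baseChange A) ((v.restrictScalars R).baseChange A) := by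
  let K := FractionRing R
  by_cases hcomp : ∀ z : F, ∃ r : R, r ≠ 0 ∧ r • v (u z) = 0
  swap
  · push Not at hcomp
    obtain ⟨z, hz⟩ := hcomp
    obtain ⟨f, hf, hne⟩ := exists_ne_zero (R := R) (B := B) (x := v (u z))
      fun r hr => by_contra fun h => hz r h hr
    exact ⟨f, hf, fun A _ _ _ hA hex => hne A hA (hex.apply_apply_eq_zero ((1 : A) ⊗ₜ[R] z))⟩
  have hK : ∀ y, (v.restrictScalars R).baseChange K ((u.restrictScalars R).baseChange K y) = 0 := by
    intro y
    induction y using TensorProduct.induction_on with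
    | zero => simp
    | add a b ha hb => rw [map_add, map_add, ha, hb, add_zero]
    | tmul a z =>
      obtain ⟨r, hr, hrz⟩ := hcomp z
      refine (IsLocalization.map_units K (⟨r, mem_nonZeroDivisors_of_ne_zero hr⟩ : R⁰)).smul_eq_zero.1 ?_
      show algebraMap R K r • (a ⊗ₜ[R] v (u z)) = 0
      rw [algebraMap_smul, ← TensorProduct.tmul_smul, hrz, TensorProduct.tmul_zero]
  obtain ⟨y, hy, hy'⟩ : ∃ y, (v.restrictScalars R).baseChange K y = 0 ∧
      y ∉ Set.range ((u.restrictScalars R).baseChange K) := by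
    by_contra h
    push Not at h
    exact hgen fun y => ⟨h y, fun ⟨x, hx⟩ => hx ▸ hK x⟩
  haveI : ∀ (M : Type u) [AddCommGroup M] [Module R M], IsLocalizedModule R⁰ (TensorProduct.mk R K M 1) :=
    fun M _ _ => (isLocalizedModule_iff_isBaseChange R⁰ K _).2 (TensorProduct.isBaseChange R M K)
  obtain ⟨⟨g, ⟨c, hc⟩⟩, hg⟩ := IsLocalizedModule.surj R⁰ (TensorProduct.mk R K G 1) y
  have hcu : IsUnit (algebraMap R K c) := IsLocalization.map_units K (⟨c, hc⟩ : R⁰)
  have hg' : algebraMap R K c • y = (1 : K) ⊗ₜ[R] g := by rw [algebraMap_smul]; exact hg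
  have hvg : (1 : K) ⊗ₜ[R] v g = 0 := by
    have := congrArg ((v.restrictScalars R).baseChange K) hg'
    rw [map_smul, hy, smul_zero] at this
    exact this.symm
  obtain ⟨⟨d, hd⟩, hdv⟩ := (IsLocalizedModule.eq_zero_iff R⁰ (TensorProduct.mk R K H 1)).1 hvg
  obtain ⟨f, hf, hne⟩ := exists_ne_zero (R := R) (B := B) (M := G ⧸ LinearMap.range u)
    (x := Submodule.Quotient.mk (d • g)) (fun r hr => by
      by_contra hr0
      rw [← Submodule.Quotient.mk_smul, Submodule.Quotient.mk_eq_zero] at hr
      obtain ⟨z, hz⟩ := hr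
      obtain ⟨e, he⟩ := (hcu.mul ((IsLocalization.map_units K (⟨r * d, mul_mem
        (mem_nonZeroDivisors_of_ne_zero hr0) hd⟩ : R⁰)))).exists_left_inv
      refine hy' ⟨e • ((1 : K) ⊗ₜ[R] z), ?_⟩
      rw [map_smul, LinearMap.baseChange_tmul, LinearMap.restrictScalars_apply, hz, smul_smul r d g,
        TensorProduct.tmul_smul, ← hg', ← algebraMap_smul K (r * d), smul_smul, smul_smul]
      rw [show e * algebraMap R K (r * d) * algebraMap R K c = 1 by rw [← he]; ring, one_smul])
  refine ⟨f, hf, fun A _ _ _ hA hex => hne A hA ?_⟩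
  obtain ⟨w, hw⟩ := (hex ((1 : A) ⊗ₜ[R] (d • g))).1 (by
    rw [LinearMap.baseChange_tmul, LinearMap.restrictScalars_apply, LinearMap.map_smul_of_tower]
    exact (congrArg ((1 : A) ⊗ₜ[R] ·) hdv).trans (TensorProduct.tmul_zero _ _))
  have h := congrArg (((LinearMap.range u).mkQ.restrictScalars R).lTensor A) hw
  refine Eq.trans ?_ (h.symm.trans ?_)
  · rfl
  · change ((LinearMap.range u).mkQ.restrictScalars R).lTensor A ((u.restrictScalars R).lTensor A w) = 0
    rw [← LinearMap.lTensor_comp_apply,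
      show (LinearMap.range u).mkQ.restrictScalars R ∘ₗ u.restrictScalars R = 0 from
        LinearMap.ext fun z => (Submodule.Quotient.mk_eq_zero _).2 ⟨z, rfl⟩,
      LinearMap.lTensor_zero, LinearMap.zero_apply]

end Groth.Agent.H8Props.GenericExact
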